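import Groth.Agent.CompareLib.Main
import Groth.Agent.CohLib.CohPresheaf

/-! Consequences of the vanishing: weak Serre, cohomology, relocalisation. -/

set_option linter.unusedSectionVars false
set_option linter.style.haveILetI false

universe u

open CategoryTheory Limits Opposite
open ZeroObject

namespace Groth.Agent.CompareLib

noncomputable section

variable {C : Type u} [SmallCategory C] {J J' : GrothendieckTopology C}

section Pullback

variable {𝒜 : Type*} [Category 𝒜] [Abelian 𝒜]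

/-- A short exact sequence is pulled back from any left exact sequence extending its first term. -/
lemma isPullback_of_shortExact {S : ShortComplex 𝒜} (hS : S.ShortExact) {I₀ I₁ : 𝒜}
    (d : I₀ ⟶ I₁) (a : S.X₂ ⟶ I₀) (b : S.X₃ ⟶ I₁) (w : a ≫ d = S.g ≫ b)
    (hl : (S.f ≫ a) ≫ d = 0) [Mono (S.f ≫ a)] (hex : (ShortComplex.mk (S.f ≫ a) d hl).Exact) :
    IsPullback a S.g d b := by
  let φ : S.X₂ ⟶ pullback d b := pullback.lift a S.g w
  let T : ShortComplex 𝒜 := ShortComplex.mk (S.f ≫ φ) (pullback.snd d b) (by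
    rw [Category.assoc, pullback.lift_snd, S.zero])
  have hf : T.f ≫ pullback.fst d b = S.f ≫ a := by
    exact (Category.assoc _ _ _).trans (congrArg (S.f ≫ ·) (pullback.lift_fst _ _ _))
  haveI : Mono T.f := mono_of_mono_fac hf
  haveI := hS.epi_g
  haveI : Epi T.g := epi_of_epi_fac (show φ ≫ T.g = S.g from pullback.lift_snd _ _ _)
  have hT : T.ShortExact := ShortComplex.ShortExact.mk' (ShortComplex.exact_of_f_is_kernel T
    (KernelFork.IsLimit.ofι' _ _ fun {W} k hk => ⟨hex.lift (k ≫ pullback.fst d b) (by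
      change (k ≫ pullback.fst d b) ≫ d = 0
      rw [Category.assoc, pullback.condition, reassoc_of% hk, zero_comp]), by
      apply pullback.hom_ext
      · rw [Category.assoc, hf]
        exact hex.lift_f _ _
      · rw [Category.assoc]
        exact ((congrArg (_ ≫ ·) T.zero).trans comp_zero).trans hk.symm⟩)) inferInstance inferInstance
  let Φ : S ⟶ T :=
    { τ₁ := 𝟙 _
      τ₂ := φ
      τ₃ := 𝟙 _
      comm₁₂ := Category.id_comp _
      comm₂₃ := (pullback.lift_snd _ _ _).trans (Category.comp_id _).symm }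
  haveI : IsIso Φ.τ₁ := inferInstanceAs (IsIso (𝟙 _))
  haveI : IsIso Φ.τ₃ := inferInstanceAs (IsIso (𝟙 _))
  haveI : IsIso φ := ShortComplex.isIso₂_of_shortExact_of_isIso₁₃ Φ hS hT
  exact IsPullback.of_iso_pullback ⟨w⟩ (asIso φ) (pullback.lift_fst _ _ _) (pullback.lift_snd _ _ _)

end Pullback

variable (h : J' ≤ J) (P : MorphismProperty C)
    (A' : ∀ X : C, ObjectProperty (Sheaf (J'.over X) AddCommGrpCat.{u})) [∀ X : C, WSerre.IsWeakSerre (A' X)]
    (h2 : ∀ ⦃X Y : C⦄ (f : X ⟶ Y) (F' : Sheaf (J'.over Y) AddCommGrpCat.{u}), A' Y F' →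
      A' X ((CohSite.push (J'.over Y) (J'.over X) (Over.map f)).obj F'))
    (h3 : ∀ (X : C) (F' : Sheaf (J'.over X) AddCommGrpCat.{u}), A' X F' → Presheaf.IsSheaf (J.over X) F'.obj)
    (h4 : ∀ ⦃X Y : C⦄ (f : X ⟶ Y)
      [((Over.map f).sheafPushforwardCocontinuous AddCommGrpCat.{u} (J'.over X) (J'.over Y)).Additive],
      P f → ∀ (F' : Sheaf (J'.over X) AddCommGrpCat.{u}), A' X F' → ∀ i : ℕ,
        A' Y ((((Over.map f).sheafPushforwardCocontinuous AddCommGrpCat.{u} (J'.over X) (J'.over Y)).rightDerived i).obj F'))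
    (h5 : ∀ (U : C) (S : Sieve U), S ∈ J U → ∃ (ι : Type u) (V : ι → C) (v : ∀ j, V j ⟶ U),
      Sieve.ofArrows V v ∈ J' U ∧ ∀ j, ∃ (W : C) (w : W ⟶ V j), P w ∧
        Sieve.ofArrows (fun _ : PUnit.{u + 1} => W) (fun _ => w) ∈ J (V j) ∧
        ∃ (κ : Type u) (Wk : κ → C) (wk : ∀ k, Wk k ⟶ W), Sieve.ofArrows Wk wk ∈ J' W ∧
          ∀ k, S.arrows (wk k ≫ w ≫ v j))

/-- The inverse image along the comparison. -/
abbrev epsI (X : C) : Sh J' X ⥤ Sh J X := SiteCmp.epsShInv (SiteCmp.over_le h X) AddCommGrpCat.{u}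

/-- A member is the direct image of its inverse image. -/
def unitIso {X : C} (G : Sh J' X) (hG : Presheaf.IsSheaf (J.over X) G.obj) :
    G ≅ (epsO h X).obj ((epsI h X).obj G) :=
  haveI := isIso_unit (SiteCmp.over_le h X) G hG
  asIso ((SiteCmp.epsShAdj (SiteCmp.over_le h X) AddCommGrpCat.{u}).unit.app G)

/-- The inverse image of a direct image. -/
def counitIso {X : C} (F : Sh J X) : (epsI h X).obj ((epsO h X).obj F) ≅ F :=
  (asIso (SiteCmp.epsShAdj (SiteCmp.over_le h X) AddCommGrpCat.{u}).counit).app F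

include h2 h3 h4 h5 in
/-- The direct image is exact on extensions with first term a member. -/
lemma epi_eps_map {X : C} {S : ShortComplex (Sh J X)} (hS : S.ShortExact)
    (hA : A' X ((epsO h X).obj S.X₁)) : Epi ((epsO h X).map S.g) := by
  let I := injectiveResolution S.X₁
  obtain ⟨R, hR⟩ := exists_resolution h P A' h2 h3 h4 h5 S.X₁ hA I
  haveI := hS.mono_f
  let ι₀ : S.X₁ ⟶ I.cocomplex.X 0 := I.ι.f 0
  haveI hι : Mono ι₀ := inferInstanceAs (Mono (I.ι.f 0))
  let a : S.X₂ ⟶ I.cocomplex.X 0 := Injective.factorThru ι₀ S.f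
  have ha : S.f ≫ a = ι₀ := Injective.comp_factorThru _ _
  haveI : Mono (S.f ≫ a) := by rw [ha]; exact hι
  have hιd : ι₀ ≫ I.cocomplex.d 0 1 = 0 := I.ι_f_zero_comp_complex_d
  have hl : (S.f ≫ a) ≫ I.cocomplex.d 0 1 = 0 := by rw [ha, hιd]
  haveI := hS.epi_g
  let b : S.X₃ ⟶ I.cocomplex.X 1 := hS.exact.desc (a ≫ I.cocomplex.d 0 1)
    ((Category.assoc _ _ _).symm.trans hl)
  have hb : S.g ≫ b = a ≫ I.cocomplex.d 0 1 := hS.exact.g_desc _ _
  have hbd : b ≫ I.cocomplex.d 1 2 = 0 := by
    rw [← cancel_epi S.g, reassoc_of% hb, I.cocomplex.d_comp_d, comp_zero, comp_zero]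
  have hpb : IsPullback a S.g (I.cocomplex.d 0 1) b :=
    isPullback_of_shortExact hS _ a b hb.symm hl
      (ShortComplex.exact_of_iso (ShortComplex.isoMk (S₁ := ShortComplex.mk ι₀ (I.cocomplex.d 0 1) hιd) (S₂ := ShortComplex.mk (S.f ≫ a) (I.cocomplex.d 0 1) hl)
        (Iso.refl _) (Iso.refl _) (Iso.refl _)
        ((Category.id_comp _).trans (ha.trans (Category.comp_id _).symm))
        ((Category.id_comp _).trans (Category.comp_id _).symm)) I.exact₀)
  have hpb' := hpb.map (epsO h X)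
  rw [epi_iff_surjective_up_to_refinements]
  intro T t
  have hex : ((epsCx h I).sc' 0 1 2).Exact :=
    ((epsCx h I).exactAt_iff' 0 1 2 (by simp) (by simp)).1
      ((HomologicalComplex.exactAt_iff_isZero_homology _ _).2
        (isZero_homology h P A' h2 h3 h4 h5 0 X S.X₁ hA I))
  obtain ⟨T', π, hπ, y, hy⟩ := hex.exact_up_to_refinements (t ≫ (epsO h X).map b) (by
    change (t ≫ (epsO h X).map b) ≫ (epsO h X).map (I.cocomplex.d 1 2) = 0
    rw [Category.assoc, ← Functor.map_comp, hbd, Functor.map_zero, comp_zero])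
  refine ⟨T', π, hπ, hpb'.lift y (π ≫ t) ?_, (hpb'.lift_snd _ _ _).symm⟩
  exact hy.symm.trans (Category.assoc _ _ _).symm

include h2 h3 h4 h5 in
/-- Sheaves whose direct image is a member form a weak Serre subcategory. -/
theorem isWeakSerre_inverseImage (X : C) :
    WSerre.IsWeakSerre ((A' X).inverseImage (epsO h X)) := by
  haveI hzero : ((A' X).inverseImage (epsO h X)).ContainsZero :=
    ⟨⟨0, isZero_zero _, (A' X).prop_of_isZero ((epsO h X).map_isZero (isZero_zero _))⟩⟩
  haveI hker : ((A' X).inverseImage (epsO h X)).IsClosedUnderKernels := by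
    refine ⟨?_⟩
    rintro K ⟨f, k, hk, ⟨h₁, h₂⟩⟩
    exact (A' X).prop_of_isLimit_kernelFork (k.mapIsLimit hk (epsO h X)) h₁ h₂
  haveI hcoker : ((A' X).inverseImage (epsO h X)).IsClosedUnderCokernels := by
    refine ⟨?_⟩
    rintro Q ⟨f, k, hk, ⟨h₁, h₂⟩⟩
    let Q' := cokernel ((epsO h X).map f)
    have hQ : A' X Q' :=
      (A' X).prop_of_isColimit_cokernelCofork (colimit.isColimit (parallelPair _ 0)) h₁ h₂
    let e : (epsI h X).obj Q' ≅ _ := PreservesCokernel.iso (epsI h X) ((epsO h X).map f) ≪≫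
      cokernel.mapIso _ f (counitIso h _) (counitIso h _)
        ((SiteCmp.epsShAdj (SiteCmp.over_le h X) AddCommGrpCat.{u}).counit.naturality f) ≪≫
      (cokernelIsCokernel f).coconePointUniqueUpToIso hk
    exact (A' X).prop_of_iso (unitIso h Q' (h3 X Q' hQ) ≪≫ (epsO h X).mapIso e) hQ
  haveI hext : ((A' X).inverseImage (epsO h X)).IsClosedUnderExtensions := by
    refine ⟨fun {S} hS h₁ h₃ => ?_⟩
    haveI := hS.mono_f
    haveI := epi_eps_map h P A' h2 h3 h4 h5 hS h₁
    haveI : Mono ((epsO h X).map S.f) := inferInstance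
    exact (A' X).prop_X₂_of_shortExact (S := S.map (epsO h X))
      (ShortComplex.ShortExact.mk' (ShortComplex.exact_of_f_is_kernel _
        (isLimitForkMapOfIsLimit' (epsO h X) _ hS.fIsKernel))
        ‹Mono ((epsO h X).map S.f)› ‹Epi ((epsO h X).map S.g)›) h₁ h₃
  exact {}

include h2 h3 h4 h5 in
/-- Cohomology for the two topologies. -/
theorem nonempty_cohomology_equiv (X : C) (F' : Sh J' X) (hF' : A' X F') (n : ℕ) (U : Over X) :
    Nonempty (CohSite.HU F' n U ≃+ CohSite.HU ((epsI h X).obj F') n U) := by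
  let F := (epsI h X).obj F'
  let u := unitIso h F' (h3 X F' hF')
  let I := injectiveResolution F
  obtain ⟨R, hR⟩ := exists_resolution h P A' h2 h3 h4 h5 F ((A' X).prop_of_iso u hF') I
  obtain ⟨c⟩ := CohLib.nonempty_secCx_homology_iso R n
  obtain ⟨d⟩ := CohLib.nonempty_secCx_homology_iso I n
  let e : CohLib.secCx R ≅ CohLib.secCx I :=
    ((sheafToPresheaf _ AddCommGrpCat.{u}).mapHomologicalComplex _).mapIso (eqToIso hR) ≪≫
      HomologicalComplex.Hom.isoOfComponents (fun i => Iso.refl _) (fun i j _ => by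
        exact (Category.id_comp _).trans (Category.comp_id _).symm)
  have e₁ : CohSite.HU F' n U ≃+ CohSite.HU ((epsO h X).obj F) n U :=
    AddEquiv.mk
      { toFun := fun x => x.comp (Abelian.Ext.mk₀ u.hom) (add_zero n)
        invFun := fun x => x.comp (Abelian.Ext.mk₀ u.inv) (add_zero n)
        left_inv := fun x => by simp
        right_inv := fun x => by simp }
      (fun x y => Abelian.Ext.add_comp _ _ _ (add_zero n))
  exact ⟨e₁.trans ((c.symm ≪≫ (HomologicalComplex.homologyFunctor _ _ n).mapIso e ≪≫ d).app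
    (op U)).addCommGroupIsoToAddEquiv⟩

include h2 h3 h4 h5 in
/-- Higher relocalisations commute with the comparison. -/
theorem nonempty_relocalisation_iso {X Y : C} (f : X ⟶ Y) (hf : P f) (F : Sh J X)
    (hF : A' X ((epsO h X).obj F)) (i : ℕ) :
    Nonempty (((reloc J' f).rightDerived i).obj ((epsO h X).obj F) ≅
      (epsO h Y).obj (((reloc J f).rightDerived i).obj F)) := by
  let I := injectiveResolution F
  obtain ⟨R, hR⟩ := exists_resolution h P A' h2 h3 h4 h5 F hF I
  let L := ((reloc J f).mapHomologicalComplex _).obj I.cocomplex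
  let K := ((epsO h Y).mapHomologicalComplex _).obj L
  let e₀ : ((reloc J' f).mapHomologicalComplex _).obj (epsCx h I) ≅ K :=
    HomologicalComplex.Hom.isoOfComponents (fun m => (relocEpsIso h f).app (I.cocomplex.X m))
      (fun m m' _ => ((relocEpsIso h f).hom.naturality (I.cocomplex.d m m')).symm)
  let e₁ : ((reloc J' f).rightDerived i).obj ((epsO h X).obj F) ≅ K.homology i :=
    R.isoRightDerivedObj (reloc J' f) i ≪≫ (HomologicalComplex.homologyFunctor _ _ i).mapIso
      (((reloc J' f).mapHomologicalComplex _).mapIso (eqToIso hR) ≪≫ e₀)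
  have hK : A' Y (K.homology i) := (A' Y).prop_of_iso e₁ (h4 f hf _ hF i)
  let e₂ : (epsI h Y).obj (K.homology i) ≅ L.homology i :=
    ((K.sc i).mapHomologyIso (epsI h Y)).symm ≪≫
      (HomologicalComplex.homologyFunctor _ _ i).mapIso
        (HomologicalComplex.Hom.isoOfComponents (fun m => counitIso h (L.X m))
          (fun m m' _ => ((SiteCmp.epsShAdj (SiteCmp.over_le h Y) AddCommGrpCat.{u}).counit.naturality
            (L.d m m')).symm) :
          ((epsI h Y).mapHomologicalComplex _).obj K ≅ L)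
  exact ⟨e₁ ≪≫ unitIso h _ (h3 Y _ hK) ≪≫ (epsO h Y).mapIso (e₂ ≪≫ (I.isoRightDerivedObj (reloc J f) i).symm)⟩

end

end Groth.Agent.CompareLib
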