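import Groth.Agent.CompareLib.Main
import Groth.Agent.CohLib.CohPresheaf

/-! Classes equalised on the self product of a cover. -/

set_option linter.unusedSectionVars false
set_option linter.style.haveILetI false

universe u

open CategoryTheory Limits Opposite

namespace Groth.Agent.CompareLib

noncomputable section

section Classes

variable {D : Type u} [SmallCategory D] {K : GrothendieckTopology D}
  {M : Sheaf K AddCommGrpCat.{u}} (R : InjectiveResolution M) (n : ℕ)

lemma secAdd_symm_comp {U : D} (a : (R.cocomplex.X (n + 1)).obj.obj (op U))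
    (ha : (R.cocomplex.d (n + 1) (n + 2)).hom.app (op U) a = 0) :
    (CohLib.secAddEquiv K U (R.cocomplex.X (n + 1))).symm a ≫ R.cocomplex.d (n + 1) (n + 2) = 0 := by
  apply (CohLib.secAddEquiv K U _).injective
  rw [map_zero, CohLib.secAddEquiv_eq, CohLib.secEquiv_comp, ← CohLib.secAddEquiv_eq,
    AddEquiv.apply_symm_apply, ha]

/-- The class of a cocycle. -/
def cls {U : D} (a : (R.cocomplex.X (n + 1)).obj.obj (op U))
    (ha : (R.cocomplex.d (n + 1) (n + 2)).hom.app (op U) a = 0) : CohSite.HU M (n + 1) U :=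
  R.extMk ((CohLib.secAddEquiv K U (R.cocomplex.X (n + 1))).symm a) (n + 2) rfl
    (secAdd_symm_comp R n a ha)

lemma cls_surjective {U : D} (θ : CohSite.HU M (n + 1) U) : ∃ a ha, cls R n a ha = θ := by
  obtain ⟨g, hg, e⟩ := R.extMk_surjective θ (n + 2) rfl
  refine ⟨CohLib.secAddEquiv K U _ g, ?_, ?_⟩
  · rw [CohLib.secAddEquiv_eq, ← CohLib.secEquiv_comp, ← CohLib.secAddEquiv_eq, hg, map_zero]
  · refine Eq.trans ?_ e
    simp only [cls, AddEquiv.symm_apply_apply]

lemma d_map {U V : D} (g : V ⟶ U) {m m' : ℕ} (a : (R.cocomplex.X m).obj.obj (op U)) :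
    (R.cocomplex.d m m').hom.app (op V) ((R.cocomplex.X m).obj.map g.op a) =
      (R.cocomplex.X m').obj.map g.op ((R.cocomplex.d m m').hom.app (op U) a) :=
  ConcreteCategory.congr_hom ((R.cocomplex.d m m').hom.naturality g.op) a

lemma res_cls {U V : D} (g : V ⟶ U) (a : (R.cocomplex.X (n + 1)).obj.obj (op U))
    (ha : (R.cocomplex.d (n + 1) (n + 2)).hom.app (op U) a = 0) :
    CohSite.res M (n + 1) g (cls R n a ha) = cls R n ((R.cocomplex.X (n + 1)).obj.map g.op a)
      (by rw [d_map, ha, map_zero]) := by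
  refine (R.mk₀_comp_extMk _ (n + 2) rfl (secAdd_symm_comp R n a ha) (CohLib.freeShMap K g)).trans ?_
  simp only [cls]
  congr 1
  apply (CohLib.secAddEquiv K V _).injective
  rw [AddEquiv.apply_symm_apply, CohLib.secAddEquiv_eq, CohLib.secEquiv_precomp,
    ← CohLib.secAddEquiv_eq, AddEquiv.apply_symm_apply]

lemma cls_eq_iff {U : D} (a a' : (R.cocomplex.X (n + 1)).obj.obj (op U))
    (ha : (R.cocomplex.d (n + 1) (n + 2)).hom.app (op U) a = 0)
    (ha' : (R.cocomplex.d (n + 1) (n + 2)).hom.app (op U) a' = 0) :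
    cls R n a ha = cls R n a' ha' ↔
      ∃ b, (R.cocomplex.d n (n + 1)).hom.app (op U) b = a - a' := by
  rw [← sub_eq_zero, cls, cls]
  erw [InjectiveResolution.sub_extMk, R.extMk_eq_zero_iff _ _ _ _ n rfl]
  constructor
  · rintro ⟨g, hg⟩
    refine ⟨CohLib.secAddEquiv K U _ g, ?_⟩
    rw [CohLib.secAddEquiv_eq, ← CohLib.secEquiv_comp, hg, ← CohLib.secAddEquiv_eq, map_sub,
      AddEquiv.apply_symm_apply, AddEquiv.apply_symm_apply]
  · rintro ⟨b, hb⟩
    refine ⟨(CohLib.secAddEquiv K U _).symm b, (CohLib.secAddEquiv K U _).injective ?_⟩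
    rw [CohLib.secAddEquiv_eq, CohLib.secEquiv_comp, ← CohLib.secAddEquiv_eq,
      AddEquiv.apply_symm_apply, hb, map_sub, AddEquiv.apply_symm_apply,
      AddEquiv.apply_symm_apply]

lemma cls_eq_zero_of_exact {U : D} (a : (R.cocomplex.X (n + 1)).obj.obj (op U))
    (ha : (R.cocomplex.d (n + 1) (n + 2)).hom.app (op U) a = 0)
    (b : (R.cocomplex.X n).obj.obj (op U)) (hb : (R.cocomplex.d n (n + 1)).hom.app (op U) b = a) :
    cls R n a ha = 0 := by
  rw [cls]
  erw [R.extMk_eq_zero_iff _ _ _ _ n rfl]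
  refine ⟨(CohLib.secAddEquiv K U _).symm b, (CohLib.secAddEquiv K U _).injective ?_⟩
  rw [CohLib.secAddEquiv_eq, CohLib.secEquiv_comp, ← CohLib.secAddEquiv_eq,
    AddEquiv.apply_symm_apply, hb, AddEquiv.apply_symm_apply]

end Classes

variable {C : Type u} [SmallCategory C] {J J' : GrothendieckTopology C}

lemma ev_comp_left (J : GrothendieckTopology C) {X Y : C} (f : X ⟶ Y) (G : Sh J X) {Z : Over Y}
    {T T' : Over X} (k : T' ⟶ T) (π : (Over.map f).obj T ⟶ Z)
    (c : ((reloc J f).obj G).obj.obj (op Z)) :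
    ev J f G ((Over.map f).map k ≫ π) c = G.obj.map k.op (ev J f G π c) := by
  have h1 := ConcreteCategory.congr_hom (((relocAdj J f).counit.app G).hom.naturality k.op)
    (((reloc J f).obj G).obj.map π.op c)
  refine Eq.trans (congrArg (((relocAdj J f).counit.app G).hom.app (op T'))
    (map_comp_apply ((reloc J f).obj G).obj π ((Over.map f).map k) c)) ?_
  exact h1

variable (P : MorphismProperty C)
    (A' : ∀ X : C, ObjectProperty (Sheaf (J'.over X) AddCommGrpCat.{u})) [∀ X : C, WSerre.IsWeakSerre (A' X)]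
    (h1 : ∀ ⦃X Y : C⦄ (f : X ⟶ Y), P f → ∀ ⦃Y' : C⦄ (g : Y' ⟶ Y),
      ∃ (W : C) (p : W ⟶ Y') (q : W ⟶ X), IsPullback p q g f ∧ P p)
    (h2 : ∀ ⦃X Y : C⦄ (f : X ⟶ Y) (F' : Sheaf (J'.over Y) AddCommGrpCat.{u}), A' Y F' →
      A' X ((CohSite.push (J'.over Y) (J'.over X) (Over.map f)).obj F'))
    (h3 : ∀ (X : C) (F' : Sheaf (J'.over X) AddCommGrpCat.{u}), A' X F' → Presheaf.IsSheaf (J.over X) F'.obj)
    (h4 : ∀ ⦃X Y : C⦄ (f : X ⟶ Y)
      [((Over.map f).sheafPushforwardCocontinuous AddCommGrpCat.{u} (J'.over X) (J'.over Y)).Additive],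
      P f → ∀ (F' : Sheaf (J'.over X) AddCommGrpCat.{u}), A' X F' → ∀ i : ℕ,
        A' Y ((((Over.map f).sheafPushforwardCocontinuous AddCommGrpCat.{u} (J'.over X) (J'.over Y)).rightDerived i).obj F'))

include h1 h2 h3 h4 in
/-- An equalised class is killed on the pullback of a cover of the base. -/
theorem exists_cover_killing {X Y : C} (f : X ⟶ Y) (hf : P f)
    (hcov : Sieve.ofArrows (fun _ : PUnit.{u + 1} => X) (fun _ => f) ∈ J Y)
    (F' : Sh J' Y) (hF' : A' Y F') (n : ℕ) (θ : CohSite.HU F' (n + 1) (Over.mk f))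
    (hθ : ∀ (W : C) (p q : W ⟶ X) (hW : IsPullback p q f f),
      CohSite.res F' (n + 1) (Over.homMk p rfl : Over.mk (p ≫ f) ⟶ Over.mk f) θ =
        CohSite.res F' (n + 1) (Over.homMk q hW.w.symm : Over.mk (p ≫ f) ⟶ Over.mk f) θ) :
    ∃ (ι : Type u) (Z : ι → C) (g : ∀ i, Z i ⟶ Y), Sieve.ofArrows Z g ∈ J' Y ∧
      ∀ (i : ι) (W : C) (p : W ⟶ Z i) (q : W ⟶ X), IsPullback p q (g i) f →
        CohSite.res F' (n + 1) (Over.homMk q rfl : Over.mk (q ≫ f) ⟶ Over.mk f) θ = 0 := by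
  let R := injectiveResolution F'
  obtain ⟨a, ha, rfl⟩ := cls_surjective R n θ
  let Q := LocSuppLib.mapRes (restr J' f) R
  let K := ((reloc J' f).mapHomologicalComplex _).obj Q.cocomplex
  let ρ := fun m => (restr J' f).obj (R.cocomplex.X m)
  have hH : A' Y (K.homology (n + 1)) :=
    (A' Y).prop_of_iso (Q.isoRightDerivedObj (reloc J' f) (n + 1)) (h4 f hf _ (h2 f _ hF') (n + 1))
  have evd : ∀ {m m' : ℕ} {Z : Over Y} {T : Over X} (π : (Over.map f).obj T ⟶ Z)
      (c : (K.X m).obj.obj (op Z)),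
      ev J' f (ρ m') π ((K.d m m').hom.app (op Z) c) =
        (R.cocomplex.d m m').hom.app (op ((Over.map f).obj T)) (ev J' f (ρ m) π c) :=
    fun π c => ev_naturality J' f ((restr J' f).map (R.cocomplex.d _ _)) π c
  -- the section over the base
  let Zt : Over Y := Over.mk (𝟙 Y)
  have hWt : IsPullback f (𝟙 X) (𝟙 Y) f := IsPullback.of_vert_isIso ⟨by simp⟩
  let πt : (Over.map f).obj (Over.mk (𝟙 X)) ⟶ Zt := Over.homMk f hWt.w
  haveI := isIso_ev J' f (ρ (n + 1)) (𝟙 Y) f (𝟙 X) hWt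
  haveI := isIso_ev J' f (ρ (n + 2)) (𝟙 Y) f (𝟙 X) hWt
  let i₀ : (Over.map f).obj (Over.mk (𝟙 X)) ⟶ Over.mk f :=
    Over.homMk (𝟙 X) (by simp)
  obtain ⟨a', ha'⟩ := (ConcreteCategory.bijective_of_isIso (ev J' f (ρ (n + 1)) πt)).2
    ((R.cocomplex.X (n + 1)).obj.map i₀.op a)
  have hda' : (K.d (n + 1) (n + 2)).hom.app (op Zt) a' = 0 := by
    apply (ConcreteCategory.bijective_of_isIso (ev J' f (ρ (n + 2)) πt)).1
    rw [evd, ha']
    exact ((d_map R i₀ a).trans (by rw [ha]; exact map_zero _)).trans (map_zero _).symm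
  obtain ⟨z, hz⟩ : ∃ z, (K.iCycles (n + 1)).hom.app (op Zt) z = a' := by
    let t := (CohLib.secAddEquiv (J'.over Y) Zt (K.X (n + 1))).symm a'
    have ht : t ≫ K.d (n + 1) (n + 2) = 0 := by
      apply (CohLib.secAddEquiv (J'.over Y) Zt _).injective
      rw [map_zero, CohLib.secAddEquiv_eq, CohLib.secEquiv_comp, ← CohLib.secAddEquiv_eq,
        AddEquiv.apply_symm_apply, hda']
    refine ⟨CohLib.secEquiv Zt _ (K.liftCycles t (n + 2) (by simp) ht), ?_⟩
    rw [← CohLib.secEquiv_comp, HomologicalComplex.liftCycles_i]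
    exact (CohLib.secAddEquiv (J'.over Y) Zt _).apply_symm_apply a'
  -- evaluations of the section
  have hev : ∀ (T : Over X) (π : (Over.map f).obj T ⟶ Zt) (r : (Over.map f).obj T ⟶ Over.mk f),
      r.left = T.hom → ev J' f (ρ (n + 1)) π a' = (R.cocomplex.X (n + 1)).obj.map r.op a := by
    intro T π r hr
    let k : T ⟶ Over.mk (𝟙 X) := Over.homMk T.hom (Category.comp_id _)
    have e : π = (Over.map f).map k ≫ πt := by
      apply Over.OverMorphism.ext
      have := Over.w π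
      simp [Zt] at this
      simp [k, πt, this]
    rw [e, ev_comp_left, ha']
    refine (map_comp_apply (R.cocomplex.X (n + 1)).obj i₀ ((Over.map f).map k) a).symm.trans ?_
    have e' : (Over.map f).map k ≫ i₀ = r := by
      apply Over.OverMorphism.ext
      simp [k, i₀, hr]
    rw [e']
  -- the class of the section vanishes
  have hξ : (K.homologyπ (n + 1)).hom.app (op Zt) z = 0 := by
    refine (h3 Y _ hH).isSeparated _ _ (J.overEquiv_symm_mem_over Zt _ hcov) _ _ fun Z' g hg => ?_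
    rw [Sieve.overEquiv_symm_iff] at hg
    obtain ⟨⟨⟩, b, hb⟩ := (Sieve.mem_ofArrows_iff (fun _ : PUnit.{u + 1} => X) (fun _ => f) g.left).1 hg
    replace hb := hb.symm
    let Z₀ : Over Y := Over.mk f
    let h₀ : Z₀ ⟶ Zt := Over.homMk f (Category.comp_id _)
    let b' : Z' ⟶ Z₀ := Over.homMk b (by
      have := Over.w g
      simp [Zt] at this
      rw [← this]
      exact hb)
    have eg : g = b' ≫ h₀ := Over.OverMorphism.ext hb.symm
    rw [map_zero, eg, map_comp_apply]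
    suffices hc : (K.homology (n + 1)).obj.map h₀.op ((K.homologyπ (n + 1)).hom.app (op Zt) z) = 0 by
      rw [hc, map_zero]
    refine (ConcreteCategory.congr_hom ((K.homologyπ (n + 1)).hom.naturality h₀.op) z).symm.trans ?_
    refine (cycle_class_eq_zero_iff K n _).2 ?_
    have ei : (K.iCycles (n + 1)).hom.app (op Z₀) ((K.cycles (n + 1)).obj.map h₀.op z) =
        (K.X (n + 1)).obj.map h₀.op a' :=
      (ConcreteCategory.congr_hom ((K.iCycles (n + 1)).hom.naturality h₀.op) z).trans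
        (congrArg _ hz)
    obtain ⟨W, p, q, hW, -⟩ := h1 f hf f
    let π₀ : (Over.map f).obj (Over.mk q) ⟶ Z₀ := Over.homMk p hW.w
    let s : (Over.map f).obj (Over.mk q) ⟶ Over.mk (p ≫ f) :=
      Over.homMk (𝟙 W) ((Category.id_comp _).trans hW.w)
    let rp : Over.mk (p ≫ f) ⟶ Over.mk f := Over.homMk p rfl
    let rq : Over.mk (p ≫ f) ⟶ Over.mk f := Over.homMk q hW.w.symm
    have hθ' := congrArg (CohSite.res F' (n + 1) s) (hθ W p q hW).symm
    simp only [res_cls] at hθ'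
    rw [cls_eq_iff] at hθ'
    obtain ⟨c, hc⟩ := hθ'
    haveI := isIso_ev J' f (ρ n) f p q hW
    haveI := isIso_ev J' f (ρ (n + 1)) f p q hW
    obtain ⟨c', hc'⟩ := (ConcreteCategory.bijective_of_isIso (ev J' f (ρ n) π₀)).2 c
    let η : ∀ (m : ℕ) (Z : (Over Y)ᵒᵖ), (R.cocomplex.X m).obj.obj Z ⟶ (K.X m).obj.obj Z :=
      fun m Z => ((relocAdj J' f).unit.app (R.cocomplex.X m)).hom.app Z
    have key : (K.X (n + 1)).obj.map h₀.op a' =
        η (n + 1) (op Z₀) a + (K.d n (n + 1)).hom.app (op Z₀) c' := by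
      apply (ConcreteCategory.bijective_of_isIso (ev J' f (ρ (n + 1)) π₀)).1
      have e1 := hev _ (π₀ ≫ h₀) (s ≫ rq) (Category.id_comp _)
      have e2 := ev_unit J' f (R.cocomplex.X (n + 1)) π₀ a
      have e3 : π₀ = s ≫ rp := Over.OverMorphism.ext (Category.id_comp _).symm
      refine ((ev_map J' f (ρ (n + 1)) h₀ π₀ a').trans e1).trans ?_
      refine Eq.trans ?_ (map_add _ _ _).symm
      refine Eq.trans ?_ (congrArg₂ (· + ·) e2.symm ((evd π₀ c').trans
        ((congrArg _ hc').trans hc)).symm)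
      rw [e3, map_comp_apply, map_comp_apply]
      exact (add_sub_cancel _ _).symm
    have hex := (R.cocomplex.exactAt_iff' n (n + 1) (n + 2) (by simp) (by simp)).1
      (R.cocomplex_exactAt_succ n)
    refine (J'.over Y).superset_covering ?_ (imageSieve_mem_of_exact hex a ha)
    rintro V k ⟨e, he⟩
    refine ⟨η n (op V) e + (K.X n).obj.map k.op c', ?_⟩
    refine Eq.trans ?_ (congrArg ((K.X (n + 1)).obj.map k.op) (ei.trans key)).symm
    refine (map_add _ _ _).trans (Eq.trans ?_ (map_add _ _ _).symm)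
    refine congrArg₂ (· + ·) ?_ (ConcreteCategory.congr_hom ((K.d n (n + 1)).hom.naturality k.op) c')
    refine (ConcreteCategory.congr_hom (NatTrans.congr_app (congrArg (fun q => q.hom)
      ((relocAdj J' f).unit.naturality (R.cocomplex.d n (n + 1)))) (op V)) e).symm.trans ?_
    exact (congrArg (η (n + 1) (op V)) he).trans
      (ConcreteCategory.congr_hom (((relocAdj J' f).unit.app (R.cocomplex.X (n + 1))).hom.naturality k.op) a)
  -- the covering
  have hS := (cycle_class_eq_zero_iff K n z).1 hξ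
  rw [hz] at hS
  rw [GrothendieckTopology.mem_over_iff] at hS
  let S : Sieve Y := Sieve.overEquiv Zt (Presheaf.imageSieve (K.d n (n + 1)).hom a')
  refine ⟨Σ Z : C, {g : Z ⟶ Y // S g}, fun i => i.1, fun i => i.2.1,
    J'.superset_covering (fun Z g hg => ?_) hS, fun i W p q hpq => ?_⟩
  · exact ⟨Z, 𝟙 Z, g, Presieve.ofArrows.mk (⟨Z, g, hg⟩ : Σ Z : C, {g : Z ⟶ Y // S g}), Category.id_comp g⟩
  · obtain ⟨Z, g, hg⟩ := i
    obtain ⟨b, hb⟩ := (Sieve.overEquiv_iff _ _).1 hg
    let gi : Over.mk (g ≫ Zt.hom) ⟶ Zt := Over.homMk g rfl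
    let π : (Over.map f).obj (Over.mk q) ⟶ Over.mk (g ≫ Zt.hom) :=
      Over.homMk p (by simp [Zt, hpq.w])
    rw [res_cls]
    refine cls_eq_zero_of_exact R n _ _ (ev J' f (ρ n) π b) ?_
    refine (evd π b).symm.trans ((congrArg (ev J' f (ρ (n + 1)) π) hb).trans ?_)
    exact (ev_map J' f (ρ (n + 1)) gi π a').trans
      (hev _ (π ≫ gi) (Over.homMk q rfl : Over.mk (q ≫ f) ⟶ Over.mk f) rfl)

end

end Groth.Agent.CompareLib
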