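import Groth.Agent.DescLib.Inj
import Groth.Agent.CohLib.Sections
import Groth.Agent.CohLib.OverCoh
import Groth.Prelude.Def_SiteCmp
import Groth.Prelude.Def_CohSite
import Mathlib.CategoryTheory.Sites.Over
import Mathlib.CategoryTheory.Sites.Whiskering
import Mathlib.CategoryTheory.Abelian.Exact
import Mathlib.Algebra.Category.Grp.EpiMono
import Mathlib.CategoryTheory.Preadditive.Injective.Preserves

/-! Restriction between localised sites, comparison of two topologies, local exactness. -/

set_option linter.unusedSectionVars false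
set_option linter.style.haveILetI false

universe u

open CategoryTheory Limits Opposite

namespace Groth.Agent.CompareLib

noncomputable section

variable {C : Type u} [SmallCategory C]

/-- Abelian sheaves on the objects over `X`. -/
abbrev Sh (J : GrothendieckTopology C) (X : C) := Sheaf (J.over X) AddCommGrpCat.{u}

section Restriction

variable (J : GrothendieckTopology C) {X Y : C} (f : X ⟶ Y)

/-- Restriction along an arrow. -/
abbrev restr : Sh J Y ⥤ Sh J X := CohSite.push (J.over Y) (J.over X) (Over.map f)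

/-- Relocalisation. -/
abbrev reloc : Sh J X ⥤ Sh J Y :=
  (Over.map f).sheafPushforwardCocontinuous AddCommGrpCat.{u} (J.over X) (J.over Y)

/-- Restriction and relocalisation are adjoint. -/
abbrev relocAdj : restr J f ⊣ reloc J f :=
  (Over.map f).sheafAdjunctionCocontinuous AddCommGrpCat.{u} (J.over X) (J.over Y)

instance additive_reloc : (reloc J f).Additive := (relocAdj J f).right_adjoint_additive

instance : (reloc J f).IsRightAdjoint := (relocAdj J f).isRightAdjoint

instance : (restr J f).IsLeftAdjoint := (relocAdj J f).isLeftAdjoint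

instance : PreservesFiniteColimits (restr J f) :=
  haveI : PreservesColimitsOfSize.{0, 0} (restr J f) := (relocAdj J f).leftAdjoint_preservesColimits
  PreservesColimitsOfSize.preservesFiniteColimits _

instance : PreservesFiniteLimits (reloc J f) :=
  haveI : PreservesLimitsOfSize.{0, 0} (reloc J f) := (relocAdj J f).rightAdjoint_preservesLimits
  PreservesLimitsOfSize.preservesFiniteLimits _

instance : PreservesFiniteLimits (restr J f) :=
  haveI : PreservesLimitsOfSize.{0, 0} (restr J f) :=
    ((Over.map f).sheafAdjunctionContinuous AddCommGrpCat.{u} (J.over X) (J.over Y)).rightAdjoint_preservesLimits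
  PreservesLimitsOfSize.preservesFiniteLimits _

instance : (restr J f).PreservesHomology := inferInstance

/-- Restriction preserves injective sheaves. -/
theorem injective_restr (I : Sh J Y) [Injective I] : Injective ((restr J f).obj I) := by
  refine Groth.DescLib.injective_restr (Over.map f) (fun Z => ?_) I
  refine ⟨{g : Z.unop.left ⟶ X // g ≫ f = Z.unop.hom}, fun g =>
    CostructuredArrow.mk (Y := op (Over.mk g.1))
      (Over.homMk (U := Z.unop) (V := (Over.map f).obj (Over.mk g.1)) (𝟙 Z.unop.left)
        ((Category.id_comp _).trans g.2)).op, Groth.DescLib.final_discrete _ ?_ ?_ ?_⟩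
  · intro j
    obtain ⟨⟨T⟩, h, rfl⟩ := j.mk_surjective
    refine ⟨⟨h.unop.left ≫ T.hom, (Category.assoc _ _ _).trans (Over.w h.unop)⟩,
      ⟨CostructuredArrow.homMk (Over.homMk (U := Over.mk (h.unop.left ≫ T.hom)) (V := T)
        h.unop.left rfl).op ?_⟩⟩
    apply Quiver.Hom.unop_inj
    apply Over.OverMorphism.ext
    exact Category.id_comp _
  · intro j g g' a b
    have key : ∀ (g : {g : Z.unop.left ⟶ X // g ≫ f = Z.unop.hom}) (a : j ⟶ CostructuredArrow.mk
        (Y := op (Over.mk g.1)) (Over.homMk (U := Z.unop) (V := (Over.map f).obj (Over.mk g.1))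
          (𝟙 Z.unop.left) ((Category.id_comp _).trans g.2)).op),
        g.1 = j.hom.unop.left ≫ j.left.unop.hom := fun g a => by
      have h1 := congrArg (fun q => q.unop.left) (CostructuredArrow.w a)
      have h2 : a.left.unop.left = j.hom.unop.left := (Category.id_comp _).symm.trans h1
      rw [← h2]
      exact (Over.w a.left.unop).symm
    exact Subtype.ext ((key g a).trans (key g' b).symm)
  · intro j g
    refine ⟨fun a b => CostructuredArrow.hom_ext _ _ (Quiver.Hom.unop_inj (Over.OverMorphism.ext ?_))⟩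
    have ha := congrArg (fun q => q.unop.left) (CostructuredArrow.w a)
    have hb := congrArg (fun q => q.unop.left) (CostructuredArrow.w b)
    exact ((Category.id_comp _).symm.trans (ha.trans hb.symm)).trans (Category.id_comp _)

instance : (restr J f).PreservesInjectiveObjects :=
  ⟨fun {I} _ => injective_restr J f I⟩

/-- Evaluation of a relocalised sheaf at an object over the source. -/
def ev (G : Sh J X) {Z : Over Y} {T : Over X} (π : (Over.map f).obj T ⟶ Z) :
    ((reloc J f).obj G).obj.obj (op Z) ⟶ G.obj.obj (op T) :=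
  ((reloc J f).obj G).obj.map π.op ≫ ((relocAdj J f).counit.app G).hom.app (op T)

lemma ev_naturality {G H : Sh J X} (φ : G ⟶ H) {Z : Over Y} {T : Over X}
    (π : (Over.map f).obj T ⟶ Z) (c : ((reloc J f).obj G).obj.obj (op Z)) :
    ev J f H π (((reloc J f).map φ).hom.app (op Z) c) = φ.hom.app (op T) (ev J f G π c) := by
  have h1 := ConcreteCategory.congr_hom (((reloc J f).map φ).hom.naturality π.op) c
  have h2 := ConcreteCategory.congr_hom (NatTrans.congr_app
    (congrArg (fun q => q.hom) ((relocAdj J f).counit.naturality φ)) (op T))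
    (((reloc J f).obj G).obj.map π.op c)
  exact (congrArg (((relocAdj J f).counit.app H).hom.app (op T)) h1).symm.trans h2

lemma ev_map (G : Sh J X) {Z Z' : Over Y} (h : Z' ⟶ Z) {T : Over X}
    (π : (Over.map f).obj T ⟶ Z') (c : ((reloc J f).obj G).obj.obj (op Z)) :
    ev J f G π (((reloc J f).obj G).obj.map h.op c) = ev J f G (π ≫ h) c := by
  refine congrArg (((relocAdj J f).counit.app G).hom.app (op T)) ?_
  exact (ConcreteCategory.congr_hom (((reloc J f).obj G).obj.map_comp h.op π.op) c).symm

lemma ev_unit (G : Sh J Y) {Z : Over Y} {T : Over X} (π : (Over.map f).obj T ⟶ Z)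
    (c : G.obj.obj (op Z)) :
    ev J f ((restr J f).obj G) π (((relocAdj J f).unit.app G).hom.app (op Z) c) =
      G.obj.map π.op c := by
  have h1 := ConcreteCategory.congr_hom (((relocAdj J f).unit.app G).hom.naturality π.op) c
  have h2 := ConcreteCategory.congr_hom (NatTrans.congr_app
    (congrArg (fun q => q.hom) ((relocAdj J f).left_triangle_components G)) (op T))
    (G.obj.map π.op c)
  exact (congrArg (((relocAdj J f).counit.app ((restr J f).obj G)).hom.app (op T)) h1).symm.trans h2

/-- The cone of evaluations is a limit. -/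
lemma ev_ext (G : Sh J X) {Z : Over Y} (c c' : ((reloc J f).obj G).obj.obj (op Z))
    (h : ∀ (T : Over X) (π : (Over.map f).obj T ⟶ Z), ev J f G π c = ev J f G π c') : c = c' := by
  refine Concrete.isLimit_ext _ ((Over.map f).op.isPointwiseRightKanExtensionRanCounit G.obj (op Z)) _ _
    fun j => ?_
  have key := h j.right.unop j.hom.unop
  have e : ((relocAdj J f).counit.app G).hom = (Over.map f).op.ranCounit.app G.obj :=
    ((Over.map f).sheafAdjunctionCocontinuous_counit_app_hom AddCommGrpCat.{u} (J.over X)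
      (J.over Y) G).trans (by rw [Functor.ranAdjunction_counit])
  change ((relocAdj J f).counit.app G).hom.app (op j.right.unop) _ =
    ((relocAdj J f).counit.app G).hom.app (op j.right.unop) _ at key
  rw [e] at key
  exact key

/-- Evaluation at a pullback is bijective. -/
lemma isIso_ev (G : Sh J X) {Y' W : C} (g : Y' ⟶ Y) (p : W ⟶ Y') (q : W ⟶ X)
    (hW : IsPullback p q g f) :
    IsIso (ev J f G (Over.homMk p hW.w :
      (Over.map f).obj (Over.mk q) ⟶ Over.mk g)) := by
  let X₀ : StructuredArrow (op (Over.mk g)) (Over.map f).op :=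
    StructuredArrow.mk (Y := op (Over.mk q)) (Over.homMk p hW.w :
      (Over.map f).obj (Over.mk q) ⟶ Over.mk g).op
  have w : ∀ S : StructuredArrow (op (Over.mk g)) (Over.map f).op,
      S.hom.unop.left ≫ g = S.right.unop.hom ≫ f := fun S => Over.w S.hom.unop
  have hI : IsInitial X₀ := by
    refine IsInitial.ofUniqueHom (fun S => StructuredArrow.homMk
      (Over.homMk (U := S.right.unop) (V := Over.mk q) (hW.lift _ _ (w S)) (hW.lift_snd _ _ _)).op ?_) ?_
    · apply Quiver.Hom.unop_inj
      apply Over.OverMorphism.ext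
      exact hW.lift_fst _ _ _
    · intro S m
      apply StructuredArrow.hom_ext
      apply Quiver.Hom.unop_inj
      apply Over.OverMorphism.ext
      refine hW.hom_ext ?_ ?_
      · refine Eq.trans ?_ (hW.lift_fst _ _ _).symm
        exact congrArg (fun q => q.unop.left) (StructuredArrow.w m)
      · exact (Over.w m.right.unop).trans (hW.lift_snd _ _ _).symm
  have h := IsLimit.isIso_π_app_of_isInitial
    ((Over.map f).op.isPointwiseRightKanExtensionRanCounit G.obj (op (Over.mk g))) _ hI
  have e : ((relocAdj J f).counit.app G).hom = (Over.map f).op.ranCounit.app G.obj :=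
    ((Over.map f).sheafAdjunctionCocontinuous_counit_app_hom AddCommGrpCat.{u} (J.over X)
      (J.over Y) G).trans (by rw [Functor.ranAdjunction_counit])
  rw [ev, e]
  exact h

end Restriction

section Local

variable {J : GrothendieckTopology C}

lemma map_comp_apply (F : Cᵒᵖ ⥤ AddCommGrpCat.{u}) {U V W : C} (g : V ⟶ U) (k : W ⟶ V)
    (x : F.obj (op U)) : F.map (k ≫ g).op x = F.map k.op (F.map g.op x) :=
  ConcreteCategory.congr_hom (F.map_comp g.op k.op) x

lemma sections_injective {F G : Sheaf J AddCommGrpCat.{u}} (φ : F ⟶ G) [Mono φ] (U : C) :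
    Function.Injective (φ.hom.app (op U)) := by
  haveI : Mono φ.hom := (sheafToPresheaf J AddCommGrpCat.{u}).map_mono φ
  exact (AddCommGrpCat.mono_iff_injective _).1 inferInstance

lemma imageSieve_mem_of_epi {F G : Sheaf J AddCommGrpCat.{u}} (φ : F ⟶ G) [Epi φ] {U : C}
    (s : G.obj.obj (op U)) : Presheaf.imageSieve φ.hom s ∈ J U := by
  haveI : Sheaf.IsLocallySurjective φ :=
    (Sheaf.isLocallySurjective_iff_epi' AddCommGrpCat.{u} φ).2 inferInstance
  exact Presheaf.imageSieve_mem J φ.hom s

lemma imageSieve_mem_of_exact {S : ShortComplex (Sheaf J AddCommGrpCat.{u})} (hS : S.Exact)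
    {U : C} (x : S.X₂.obj.obj (op U)) (hx : S.g.hom.app (op U) x = 0) :
    Presheaf.imageSieve S.f.hom x ∈ J U := by
  let t := (CohLib.secEquiv U S.X₂).symm x
  have ht : t ≫ S.g = 0 := by
    apply (CohLib.secEquiv U S.X₃).injective
    rw [CohLib.secEquiv_comp, Equiv.apply_symm_apply, hx]
    rw [← CohLib.secAddEquiv_eq, map_zero]
  obtain ⟨T, π, hπ, q, hq⟩ := hS.exact_up_to_refinements t ht
  let e := CohLib.secEquiv U _ (𝟙 ((presheafToSheaf J AddCommGrpCat.{u}).obj
    (yoneda.obj U ⋙ AddCommGrpCat.free.{u})))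
  have he : t.hom.app (op U) e = x := by
    rw [← CohLib.secEquiv_comp, Category.id_comp]
    exact Equiv.apply_symm_apply _ _
  refine J.superset_covering ?_ (imageSieve_mem_of_epi π e)
  rintro V g ⟨τ, hτ⟩
  refine ⟨q.hom.app (op V) τ, ?_⟩
  refine (ConcreteCategory.congr_hom (NatTrans.congr_app (congrArg (fun z => z.hom) hq) (op V)) τ).symm.trans ?_
  exact (congrArg (t.hom.app (op V)) hτ).trans
    ((ConcreteCategory.congr_hom (t.hom.naturality g.op) e).trans
      (congrArg (S.X₂.obj.map g.op) he))

lemma imageSieve_map {F G : Cᵒᵖ ⥤ AddCommGrpCat.{u}} (φ : F ⟶ G) {U V : C} (g : V ⟶ U)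
    (s : G.obj (op U)) :
    Presheaf.imageSieve φ (G.map g.op s) = (Presheaf.imageSieve φ s).pullback g := by
  ext W k
  simp only [Sieve.pullback_apply, Presheaf.imageSieve_apply]
  constructor <;>
  · rintro ⟨t, ht⟩
    exact ⟨t, ht.trans (by rw [map_comp_apply])⟩

variable (K : CochainComplex (Sheaf J AddCommGrpCat.{u}) ℕ)

/-- A cycle has zero class if and only if it is locally a boundary. -/
lemma cycle_class_eq_zero_iff (n : ℕ) {U : C} (z : (K.cycles (n + 1)).obj.obj (op U)) :
    (K.homologyπ (n + 1)).hom.app (op U) z = 0 ↔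
      Presheaf.imageSieve (K.d n (n + 1)).hom ((K.iCycles (n + 1)).hom.app (op U) z) ∈ J U := by
  have hd : ∀ (V : C) (b : (K.X n).obj.obj (op V)),
      (K.iCycles (n + 1)).hom.app (op V) ((K.toCycles n (n + 1)).hom.app (op V) b) =
        (K.d n (n + 1)).hom.app (op V) b := fun V b =>
    ConcreteCategory.congr_hom (NatTrans.congr_app
      (congrArg (fun q => q.hom) (K.toCycles_i n (n + 1))) (op V)) b
  constructor
  · intro hz
    refine J.superset_covering ?_ (imageSieve_mem_of_exact (ShortComplex.exact_of_g_is_cokernel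
      (ShortComplex.mk _ _ (K.toCycles_comp_homologyπ n (n + 1)))
      (K.homologyIsCokernel n (n + 1) (by simp))) z hz)
    rintro V g ⟨b, hb⟩
    exact ⟨b, (hd V b).symm.trans ((congrArg _ hb).trans
      (ConcreteCategory.congr_hom ((K.iCycles (n + 1)).hom.naturality g.op) z))⟩
  · intro h
    refine (K.homology (n + 1)).property.isSeparated _ _ h _ _ ?_
    · rintro V g ⟨b, hb⟩
      rw [map_zero]
      refine (ConcreteCategory.congr_hom ((K.homologyπ (n + 1)).hom.naturality g.op) z).symm.trans ?_
      have hz : (K.cycles (n + 1)).obj.map g.op z = (K.toCycles n (n + 1)).hom.app (op V) b :=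
        sections_injective (K.iCycles (n + 1)) V ((ConcreteCategory.congr_hom
          ((K.iCycles (n + 1)).hom.naturality g.op) z).trans ((hd V b).trans hb).symm)
      refine (congrArg ((K.homologyπ (n + 1)).hom.app (op V)) hz).trans ?_
      exact ConcreteCategory.congr_hom (NatTrans.congr_app
        (congrArg (fun q => q.hom) (K.toCycles_comp_homologyπ n (n + 1))) (op V)) b

end Local

section Cover

variable {J J' : GrothendieckTopology C} {X Y : C} (f : X ⟶ Y)

/-- Sections killed on all objects over `f` are killed by the unit. -/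
lemma unit_app_eq_zero (G : Sh J Y) {Z : Over Y} (c : G.obj.obj (op Z))
    (h : ∀ (T : Over X) (π : (Over.map f).obj T ⟶ Z), G.obj.map π.op c = 0) :
    ((relocAdj J f).unit.app G).hom.app (op Z) c = 0 :=
  ev_ext J f ((restr J f).obj G) _ _ fun T π => by
    rw [ev_unit, h T π]
    exact (map_zero _).symm

/-- The unit is monomorphic on sheaves for a topology in which `f` covers. -/
lemma mono_unit (hcov : Sieve.ofArrows (fun _ : PUnit.{u + 1} => X) (fun _ => f) ∈ J Y)
    (G : Sh J' Y) (hG : Presheaf.IsSheaf (J.over Y) G.obj) :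
    Mono ((relocAdj J' f).unit.app G) := by
  haveI : ∀ Z, Mono (((relocAdj J' f).unit.app G).hom.app Z) := by
    intro Z
    rw [AddCommGrpCat.mono_iff_injective, injective_iff_map_eq_zero]
    intro c hc
    let S : Sieve Z.unop.left := (Sieve.ofArrows (fun _ : PUnit.{u + 1} => X) (fun _ => f)).pullback
      Z.unop.hom
    refine hG.isSeparated _ _ (J.overEquiv_symm_mem_over Z.unop S (J.pullback_stable _ hcov)) _ _ ?_
    intro Z' g hg
    rw [Sieve.overEquiv_symm_iff] at hg
    obtain ⟨_, k, _, ⟨⟩, hk⟩ := hg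
    rw [map_zero]
    let e : (Over.map f).obj (Over.mk k) ⟶ Z' := Over.homMk (𝟙 _)
      ((Category.id_comp _).trans ((Over.w g).symm.trans hk.symm))
    have h1 := ev_unit J' f G (e ≫ g) c
    erw [hc] at h1
    have h2 : G.obj.map (e ≫ g).op c = 0 := h1.symm.trans (map_zero _)
    let e' : Z' ⟶ (Over.map f).obj (Over.mk k) := Over.homMk (𝟙 _)
      ((Category.id_comp _).trans (hk.trans (Over.w g)))
    have h3 : g = e' ≫ e ≫ g := by
      apply Over.OverMorphism.ext
      simp [e, e']
    rw [h3, map_comp_apply, h2, map_zero]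
  haveI : Mono ((relocAdj J' f).unit.app G).hom := NatTrans.mono_of_mono_app _
  exact (sheafToPresheaf _ _).mono_of_mono_map ‹_›

end Cover

section Eps

variable {J J' : GrothendieckTopology C} (h : J' ≤ J)


instance : (SiteCmp.epsSh h AddCommGrpCat.{u}).Full where
  map_surjective φ := ⟨⟨φ.hom⟩, rfl⟩

instance : (SiteCmp.epsSh h AddCommGrpCat.{u}).Faithful where
  map_injective {F G} a b hab := Sheaf.hom_ext (NatTrans.ext (funext fun U =>
    congrArg (fun (q : (SiteCmp.epsSh h AddCommGrpCat.{u}).obj F ⟶ (SiteCmp.epsSh h AddCommGrpCat.{u}).obj G) => q.hom.app U) hab))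

instance preservesFiniteLimits_epsShInv :
    PreservesFiniteLimits (SiteCmp.epsShInv h AddCommGrpCat.{u}) :=
  haveI := SiteCmp.idContinuous h
  Functor.sheafPullbackConstruction.preservesFiniteLimits (𝟭 C) AddCommGrpCat.{u} J' J

instance : PreservesFiniteColimits (SiteCmp.epsShInv h AddCommGrpCat.{u}) :=
  haveI : PreservesColimitsOfSize.{0, 0} (SiteCmp.epsShInv h AddCommGrpCat.{u}) :=
    (SiteCmp.epsShAdj h AddCommGrpCat.{u}).leftAdjoint_preservesColimits
  PreservesColimitsOfSize.preservesFiniteColimits _

instance : (SiteCmp.epsShInv h AddCommGrpCat.{u}).Additive :=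
  (SiteCmp.epsShAdj h AddCommGrpCat.{u}).left_adjoint_additive

instance : PreservesFiniteLimits (SiteCmp.epsSh h AddCommGrpCat.{u}) :=
  haveI : PreservesLimitsOfSize.{0, 0} (SiteCmp.epsSh h AddCommGrpCat.{u}) :=
    (SiteCmp.epsShAdj h AddCommGrpCat.{u}).rightAdjoint_preservesLimits
  PreservesLimitsOfSize.preservesFiniteLimits _

instance : (SiteCmp.epsSh h AddCommGrpCat.{u}).Additive := (SiteCmp.epsShAdj h AddCommGrpCat.{u}).right_adjoint_additive

lemma injective_eps (I : Sheaf J AddCommGrpCat.{u}) [Injective I] : Injective ((SiteCmp.epsSh h AddCommGrpCat.{u}).obj I) :=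
  Injective.injective_of_adjoint (SiteCmp.epsShAdj h AddCommGrpCat.{u}) I

instance : IsIso (SiteCmp.epsShAdj h AddCommGrpCat.{u}).counit :=
  (SiteCmp.epsShAdj h AddCommGrpCat.{u}).counit_isIso_of_R_fully_faithful

/-- A sheaf for the coarser topology which is one for the finer. -/
def asSheaf (G' : Sheaf J' AddCommGrpCat.{u}) (hG : Presheaf.IsSheaf J G'.obj) :
    (SiteCmp.epsSh h AddCommGrpCat.{u}).obj ⟨G'.obj, hG⟩ ≅ G' :=
  ObjectProperty.isoMk _ (Iso.refl _)

lemma isIso_unit (G' : Sheaf J' AddCommGrpCat.{u}) (hG : Presheaf.IsSheaf J G'.obj) :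
    IsIso ((SiteCmp.epsShAdj h AddCommGrpCat.{u}).unit.app G') :=
  (NatTrans.isIso_app_iff_of_iso _ (asSheaf h G' hG)).1 inferInstance

lemma isSheaf_eps (F : Sheaf J AddCommGrpCat.{u}) : Presheaf.IsSheaf J ((SiteCmp.epsSh h AddCommGrpCat.{u}).obj F).obj := F.property

/-- Restriction commutes with the comparison. -/
def restrEpsIso {X Y : C} (f : X ⟶ Y) :
    SiteCmp.epsSh (SiteCmp.over_le h Y) AddCommGrpCat.{u} ⋙ restr J' f ≅
      restr J f ⋙ SiteCmp.epsSh (SiteCmp.over_le h X) AddCommGrpCat.{u} :=
  NatIso.ofComponents (fun _ => ObjectProperty.isoMk _ (Iso.refl _))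

/-- Relocalisation commutes with the comparison. -/
def relocEpsIso {X Y : C} (f : X ⟶ Y) :
    SiteCmp.epsSh (SiteCmp.over_le h X) AddCommGrpCat.{u} ⋙ reloc J' f ≅
      reloc J f ⋙ SiteCmp.epsSh (SiteCmp.over_le h Y) AddCommGrpCat.{u} :=
  NatIso.ofComponents (fun _ => ObjectProperty.isoMk _ (Iso.refl _))

end Eps

end

end Groth.Agent.CompareLib
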