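import Groth.Agent.CompareLib.Perp
import Groth.Agent.CompareLib.Site
import Groth.Agent.LocSuppLib.General
import Groth.Agent.DerLib.LerayAcyclic
import Mathlib.CategoryTheory.Abelian.Injective.Resolution

/-! Vanishing of higher direct images for the comparison of two topologies. -/

set_option linter.unusedSectionVars false
set_option linter.style.haveILetI false

universe u

open CategoryTheory Limits Opposite

namespace Groth.Agent.CompareLib

noncomputable section

variable {C : Type u} [SmallCategory C] {J J' : GrothendieckTopology C} (h : J' ≤ J)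

/-- The comparison on the objects over `X`. -/
abbrev epsO (X : C) : Sh J X ⥤ Sh J' X := SiteCmp.epsSh (SiteCmp.over_le h X) AddCommGrpCat.{u}

/-- The complex computing the higher direct images of the comparison. -/
abbrev epsCx {X : C} {F : Sh J X} (I : InjectiveResolution F) : CochainComplex (Sh J' X) ℕ :=
  ((epsO h X).mapHomologicalComplex _).obj I.cocomplex

/-- Cohomology of the complex commutes with restriction. -/
def restrHomologyIso {X V : C} (v : V ⟶ X) {F : Sh J X} (I : InjectiveResolution F) (m : ℕ) :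
    (restr J' v).obj ((epsCx h I).homology m) ≅
      (epsCx h (LocSuppLib.mapRes (restr J v) I)).homology m :=
  (((epsCx h I).sc m).mapHomologyIso (restr J' v)).symm ≪≫
    (HomologicalComplex.homologyFunctor _ _ m).mapIso
      (HomologicalComplex.Hom.isoOfComponents (fun i => (restrEpsIso h v).app (I.cocomplex.X i))
        (fun i j _ => ((restrEpsIso h v).hom.naturality (I.cocomplex.d i j)).symm) :
      ((restr J' v).mapHomologicalComplex _).obj (epsCx h I) ≅
        epsCx h (LocSuppLib.mapRes (restr J v) I))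

/-- Higher direct images of the comparison in degree zero. -/
def homologyZeroIso {X : C} {F : Sh J X} (I : InjectiveResolution F) :
    (epsCx h I).homology 0 ≅ (epsO h X).obj F :=
  (I.isoRightDerivedObj (epsO h X) 0).symm ≪≫ (epsO h X).rightDerivedZeroIsoSelf.app F

lemma mono_app_of_iso {A : Type*} [Category A] {F G : A ⥤ A} (τ : F ⟶ G) {a b : A} (e : a ≅ b)
    [Mono (τ.app b)] : Mono (τ.app a) := by
  have : τ.app a = F.map e.hom ≫ τ.app b ≫ G.map e.inv := by simp
  rw [this]
  infer_instance

lemma imageSieve_mem_of_eq {J : GrothendieckTopology C} {F G : Cᵒᵖ ⥤ AddCommGrpCat.{u}} (φ : F ⟶ G)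
    {U : C} {s : G.obj (op U)} (b : F.obj (op U)) (hb : φ.app (op U) b = s) :
    Presheaf.imageSieve φ s ∈ J U := by
  have : Presheaf.imageSieve φ s = ⊤ := by
    rw [← Sieve.id_mem_iff_eq_top]
    exact ⟨b, by simpa using hb⟩
  rw [this]
  exact J.top_mem U

variable (P : MorphismProperty C)
    (A' : ∀ X : C, ObjectProperty (Sheaf (J'.over X) AddCommGrpCat.{u})) [∀ X : C, WSerre.IsWeakSerre (A' X)]
    (h2 : ∀ ⦃X Y : C⦄ (f : X ⟶ Y) (F' : Sheaf (J'.over Y) AddCommGrpCat.{u}), A' Y F' →
      A' X ((CohSite.push (J'.over Y) (J'.over X) (Over.map f)).obj F'))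
    (h3 : ∀ (X : C) (F' : Sheaf (J'.over X) AddCommGrpCat.{u}), A' X F' → Presheaf.IsSheaf (J.over X) F'.obj)
    (h4 : ∀ ⦃X Y : C⦄ (f : X ⟶ Y)
      [((Over.map f).sheafPushforwardCocontinuous AddCommGrpCat.{u} (J'.over X) (J'.over Y)).Additive],
      P f → ∀ (F' : Sheaf (J'.over X) AddCommGrpCat.{u}), A' X F' → ∀ i : ℕ,
        A' Y ((((Over.map f).sheafPushforwardCocontinuous AddCommGrpCat.{u} (J'.over X) (J'.over Y)).rightDerived i).obj F'))
    (h5 : ∀ (U : C) (S : Sieve U), S ∈ J U → ∃ (ι : Type u) (V : ι → C) (v : ∀ j, V j ⟶ U),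
      Sieve.ofArrows V v ∈ J' U ∧ ∀ j, ∃ (W : C) (w : W ⟶ V j), P w ∧
        Sieve.ofArrows (fun _ : PUnit.{u + 1} => W) (fun _ => w) ∈ J (V j) ∧
        ∃ (κ : Type u) (Wk : κ → C) (wk : ∀ k, Wk k ⟶ W), Sieve.ofArrows Wk wk ∈ J' W ∧
          ∀ k, S.arrows (wk k ≫ w ≫ v j))

include h2 h3 h4 in
/-- The first possibly nonzero higher direct image is separated for covers in the class. -/
theorem mono_unit_homology {W V : C} (w : W ⟶ V) (hw : P w)
    (hcov : Sieve.ofArrows (fun _ : PUnit.{u + 1} => W) (fun _ => w) ∈ J V)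
    (F : Sh J V) (hF : A' V ((epsO h V).obj F)) (I : InjectiveResolution F) (n : ℕ)
    (hn : ∀ i, 1 ≤ i → i ≤ n → IsZero ((epsCx h I).homology i)) :
    Mono ((relocAdj J' w).unit.app ((epsCx h I).homology (n + 1))) := by
  let R := (epsCx h I).homology (n + 1)
  let η := (relocAdj J' w).unit.app R
  let M := kernel η
  have hM : IsZero ((restr J' w).obj M) := by
    haveI : IsSplitMono ((restr J' w).map η) :=
      IsSplitMono.mk' ⟨_, (relocAdj J' w).left_triangle_components R⟩
    refine IsZero.of_mono_eq_zero ((restr J' w).map (kernel.ι η)) ?_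
    rw [← cancel_mono ((restr J' w).map η), zero_comp, ← Functor.map_comp, kernel.condition,
      Functor.map_zero]
  have hperp : ∀ {G}, A' V G → Perp.{u} M G := fun hG =>
    perp_of_mem (relocAdj J' w) (A' V) (fun G hG => mono_unit w hcov G (h3 V G hG))
      (fun G hG => h4 w hw _ (h2 w G hG)) hM hG
  have hK : ∀ i, Perp.{u} M ((epsCx h I).X i) := fun i => by
    haveI : Mono ((relocAdj J' w).unit.app ((epsCx h I).X i)) :=
      mono_unit w hcov _ (I.cocomplex.X i).property
    haveI : Injective ((epsCx h I).X i) :=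
      injective_eps (SiteCmp.over_le h V) (I.cocomplex.X i)
    exact perp_of_injective fun g => hom_eq_zero_of_mono_unit (relocAdj J' w) hM g
  have hι : kernel.ι η = 0 := hom_homology_eq_zero (epsCx h I) n hK
    (hperp ((A' V).prop_of_iso (homologyZeroIso h I).symm hF)) hn _
  exact Preadditive.mono_of_kernel_zero hι

include h2 h3 h4 h5 in
/-- All higher direct images of the comparison vanish on members. -/
theorem isZero_homology : ∀ (n : ℕ) (X : C) (F : Sh J X), A' X ((epsO h X).obj F) →
    ∀ I : InjectiveResolution F, IsZero ((epsCx h I).homology (n + 1)) := by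
  intro n
  induction n using Nat.strong_induction_on with
  | _ n ih =>
    intro X F hF I
    let K := epsCx h I
    let R := K.homology (n + 1)
    suffices key : ∀ (Z : Over X) (x : R.obj.obj (op Z)), x = 0 by
      rw [IsZero.iff_id_eq_zero]
      ext Z x
      exact (key Z.unop _).trans rfl
    intro Z x
    let K0 : Sieve Z :=
      { arrows := fun _ g => R.obj.map g.op x = 0
        downward_closed := fun {_ _ g} hg k => by
          rw [map_comp_apply, hg, map_zero] }
    have hK0 : K0 ∈ (J.over X) Z := by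
      refine (J.over X).transitive (SiteCmp.over_le h X _
        (imageSieve_mem_of_epi (K.homologyπ (n + 1)) x)) K0 fun Z' g hg => ?_
      obtain ⟨z, hz⟩ := hg
      let y := (K.iCycles (n + 1)).hom.app (op Z') z
      have hy : (I.cocomplex.d (n + 1) (n + 2)).hom.app (op Z') y = 0 :=
        ConcreteCategory.congr_hom (NatTrans.congr_app
          (congrArg (fun q => q.hom) (K.iCycles_d (n + 1) (n + 2))) (op Z')) z
      have hex := (I.cocomplex.exactAt_iff' n (n + 1) (n + 2) (by simp) (by simp)).1
        (I.cocomplex_exactAt_succ n)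
      refine (J.over X).superset_covering ?_ (imageSieve_mem_of_exact hex y hy)
      rintro Z'' k ⟨b, hb⟩
      show R.obj.map (k ≫ g).op x = 0
      rw [map_comp_apply, ← hz]
      refine (ConcreteCategory.congr_hom ((K.homologyπ (n + 1)).hom.naturality k.op) z).symm.trans ?_
      refine (cycle_class_eq_zero_iff K n _).2 (imageSieve_mem_of_eq _ b ?_)
      exact hb.trans (ConcreteCategory.congr_hom ((K.iCycles (n + 1)).hom.naturality k.op) z).symm
    obtain ⟨ι, V, v, hv, hV⟩ := h5 Z.left (Sieve.overEquiv Z K0) hK0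
    have mem : ∀ {Z' : Over X} (g : Z' ⟶ Z), Sieve.overEquiv Z K0 g.left →
        R.obj.map g.op x = 0 := fun g hg => by
      have := (Sieve.overEquiv_symm_iff (Sieve.overEquiv Z K0) g).2 hg
      rwa [OrderIso.symm_apply_apply] at this
    refine R.property.isSeparated _ _ (J'.overEquiv_symm_mem_over Z _ hv) _ _ fun Z' g hg => ?_
    rw [Sieve.overEquiv_symm_iff] at hg
    obtain ⟨_, a, _, ⟨j⟩, ha⟩ := hg
    rw [map_zero]
    let vX : V j ⟶ X := v j ≫ Z.hom
    let gj : (Over.map vX).obj (Over.mk (𝟙 (V j))) ⟶ Z := Over.homMk (v j) (Category.id_comp _).symm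
    let a' : Z' ⟶ (Over.map vX).obj (Over.mk (𝟙 (V j))) := Over.homMk a
      ((congrArg (a ≫ ·) (Category.id_comp vX)).trans
        ((Category.assoc _ _ _).symm.trans ((congrArg (· ≫ Z.hom) ha).trans (Over.w g))))
    have hg' : g = a' ≫ gj := Over.OverMorphism.ext ha.symm
    rw [hg', map_comp_apply]
    suffices hc : R.obj.map gj.op x = 0 by rw [hc, map_zero]
    obtain ⟨W, w, hw, hwcov, κ, Wk, wk, hwk, hS⟩ := hV j
    let G1 : Over X := Over.mk ((w ≫ v j) ≫ Z.hom)
    let h1 : G1 ⟶ Z := Over.homMk (w ≫ v j) rfl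
    have hx1 : R.obj.map h1.op x = 0 := by
      refine R.property.isSeparated _ _ (J'.overEquiv_symm_mem_over G1 _ hwk) _ _ fun Z'' e he => ?_
      rw [Sieve.overEquiv_symm_iff] at he
      obtain ⟨_, b, _, ⟨k⟩, hb⟩ := he
      rw [map_zero, ← map_comp_apply]
      refine mem _ ?_
      rw [Over.comp_left, ← hb, Category.assoc]
      exact (Sieve.overEquiv Z K0).downward_closed (hS k) b
    haveI : Mono ((relocAdj J' w).unit.app ((restr J' vX).obj R)) := by
      haveI := mono_unit_homology h P A' h2 h3 h4 w hw hwcov _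
        ((A' (V j)).prop_of_iso ((restrEpsIso h vX).app F) (h2 vX _ hF))
        (LocSuppLib.mapRes (restr J vX) I) n (fun i h1 h2' => by
          obtain ⟨i, rfl⟩ := Nat.exists_eq_add_of_le' h1
          exact ih i (by omega) _ _ ((A' (V j)).prop_of_iso ((restrEpsIso h vX).app F) (h2 vX _ hF)) _)
      exact mono_app_of_iso (relocAdj J' w).unit (restrHomologyIso h vX I (n + 1))
    refine sections_injective ((relocAdj J' w).unit.app ((restr J' vX).obj R))
      (Over.mk (𝟙 (V j))) ?_
    refine Eq.trans ?_ (map_zero _).symm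
    refine unit_app_eq_zero w _ _ fun T π => ?_
    let m : (Over.map vX).obj ((Over.map w).obj T) ⟶ G1 := Over.homMk T.hom (by
      simp [G1, vX])
    refine (map_comp_apply R.obj gj ((Over.map vX).map π) x).symm.trans ?_
    have e : (Over.map vX).map π ≫ gj = m ≫ h1 := by
      apply Over.OverMorphism.ext
      have := Over.w π
      simp at this
      simp [gj, m, h1, this]
    rw [e, map_comp_apply, hx1]
    exact map_zero _

include h2 h3 h4 h5 in
/-- The comparison sends an injective resolution of a member to an injective resolution. -/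
theorem exists_resolution {X : C} (F : Sh J X) (hF : A' X ((epsO h X).obj F))
    (I : InjectiveResolution F) :
    ∃ R : InjectiveResolution ((epsO h X).obj F), R.cocomplex = epsCx h I := by
  let ι' : (CochainComplex.single₀ (Sh J' X)).obj ((epsO h X).obj F) ⟶ epsCx h I :=
    ((HomologicalComplex.singleMapHomologicalComplex (epsO h X) _ 0).app _).inv ≫
      ((epsO h X).mapHomologicalComplex _).map I.ι
  refine ⟨{ cocomplex := epsCx h I
            injective := fun i => injective_eps (SiteCmp.over_le h X) (I.cocomplex.X i)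
            ι := ι'
            quasiIso := ?_ }, rfl⟩
  have : QuasiIso (((epsO h X).mapHomologicalComplex _).map I.ι) := by
    rw [Groth.Agent.DerLib.LerayAcyclic.quasiIso_map_ι_iff]
    refine ⟨inferInstance, fun i hi => ?_⟩
    obtain ⟨i, rfl⟩ := Nat.exists_eq_add_of_le' hi
    exact (isZero_homology h P A' h2 h3 h4 h5 i X F hF I).of_iso
      (I.isoRightDerivedObj (epsO h X) (i + 1))
  infer_instance

end

end Groth.Agent.CompareLib
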