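import Mathlib.Algebra.Homology.DerivedCategory.Ext.ExactSequences
import Mathlib.Algebra.Homology.DerivedCategory.Ext.EnoughInjectives
import Mathlib.CategoryTheory.Abelian.RightDerived
import Groth.Prelude.Def_WeakSerre

/-! Objects right orthogonal to the kernel of an exact left adjoint. -/

set_option linter.unusedSectionVars false
set_option linter.style.haveILetI false

universe w v v' u u'

open CategoryTheory Limits Abelian

namespace Groth.Agent.CompareLib

variable {C : Type u} [Category.{v} C] [Abelian C] [HasExt.{w} C] {M : C}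

/-- `Ext^j(M, G) = 0` for `j ≤ k`. -/
def PerpLE (M : C) (k : ℕ) (G : C) : Prop := ∀ j ≤ k, ∀ e : Ext.{w} M G j, e = 0

/-- `Ext^j(M, G) = 0` for all `j`. -/
def Perp (M : C) (G : C) : Prop := ∀ k, PerpLE.{w} M k G

variable {S : ShortComplex C} (hS : S.ShortExact)

lemma PerpLE.mono {k l : ℕ} {G : C} (h : PerpLE.{w} M k G) (hl : l ≤ k) : PerpLE.{w} M l G :=
  fun j hj => h j (hj.trans hl)

lemma perpLE_zero {G : C} (h : ∀ f : M ⟶ G, f = 0) : PerpLE.{w} M 0 G := by
  rintro j hj e
  obtain rfl : j = 0 := by omega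
  obtain ⟨f, rfl⟩ := (Ext.mk₀_bijective M G).2 e
  rw [h f, Ext.mk₀_zero]

lemma hom_eq_zero {k : ℕ} {G : C} (h : PerpLE.{w} M k G) (f : M ⟶ G) : f = 0 :=
  (Ext.mk₀_bijective M G).1 ((h 0 (Nat.zero_le k) (Ext.mk₀ f)).trans (Ext.mk₀_zero _ _).symm)

lemma perp_of_injective {G : C} [Injective G] (h : ∀ f : M ⟶ G, f = 0) : Perp.{w} M G := by
  intro k j _ e
  cases j with
  | zero => exact perpLE_zero h 0 le_rfl e
  | succ j => exact Ext.eq_zero_of_injective e

include hS in
lemma perpLE₁ {k : ℕ} (h₂ : PerpLE.{w} M (k + 1) S.X₂) (h₃ : PerpLE.{w} M k S.X₃) :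
    PerpLE.{w} M (k + 1) S.X₁ := by
  intro j hj e
  cases j with
  | zero =>
    haveI := hS.mono_f
    apply Ext.postcomp_mk₀_injective_of_mono M S.f
    exact (h₂ 0 (Nat.zero_le _) _).trans (map_zero _).symm
  | succ j =>
    obtain ⟨x, rfl⟩ := Ext.covariant_sequence_exact₁ M hS e (h₂ (j + 1) hj _) rfl
    rw [h₃ j (by omega) x, Ext.zero_comp]

include hS in
lemma perpLE₂ {k : ℕ} (h₁ : PerpLE.{w} M k S.X₁) (h₃ : PerpLE.{w} M k S.X₃) :
    PerpLE.{w} M k S.X₂ := by
  intro j hj e
  obtain ⟨x, rfl⟩ := Ext.covariant_sequence_exact₂ M hS e (h₃ j hj _)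
  rw [h₁ j hj x, Ext.zero_comp]

include hS in
lemma perpLE₃ {k : ℕ} (h₁ : PerpLE.{w} M (k + 1) S.X₁) (h₂ : PerpLE.{w} M k S.X₂) :
    PerpLE.{w} M k S.X₃ := by
  intro j hj e
  obtain ⟨x, rfl⟩ := Ext.covariant_sequence_exact₃ M hS e rfl (h₁ (j + 1) (by omega) _)
  rw [h₂ j hj x, Ext.zero_comp]

section Cycles

variable (K : CochainComplex C ℕ) (i : ℕ)

/-- Boundaries. -/
noncomputable abbrev bd : C := kernel (K.homologyπ i)

/-- The differential onto the boundaries. -/
noncomputable def toBd : K.X i ⟶ bd K (i + 1) :=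
  kernel.lift _ (K.toCycles i (i + 1)) (K.toCycles_comp_homologyπ i (i + 1))

lemma toBd_ι : toBd K i ≫ kernel.ι _ ≫ K.iCycles (i + 1) = K.d i (i + 1) := by
  rw [toBd, kernel.lift_ι_assoc, HomologicalComplex.toCycles_i]

lemma epi_toBd : Epi (toBd K i) := by
  have h : (ShortComplex.mk _ _ (K.toCycles_comp_homologyπ i (i + 1))).Exact :=
    ShortComplex.exact_of_g_is_cokernel _ (K.homologyIsCokernel i (i + 1) (by simp))
  exact h.epi_kernelLift

lemma iCycles_toBd : K.iCycles i ≫ toBd K i = 0 := by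
  rw [← cancel_mono (kernel.ι (K.homologyπ (i + 1)) ≫ K.iCycles (i + 1)), Category.assoc, toBd_ι,
    HomologicalComplex.iCycles_d, zero_comp]

lemma shortExact_cycles :
    (ShortComplex.mk (K.iCycles i) (toBd K i) (iCycles_toBd K i)).ShortExact := by
  haveI := epi_toBd K i
  refine ShortComplex.ShortExact.mk' (ShortComplex.exact_of_f_is_kernel _ ?_) inferInstance inferInstance
  let l := K.cyclesIsKernel i (i + 1) (by simp)
  have e := toBd_ι K i
  exact KernelFork.IsLimit.ofι' _ _ fun {W} g hg => ⟨K.liftCycles g (i + 1) (by simp) (by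
    rw [← e, reassoc_of% hg, zero_comp]), by simp⟩

lemma shortExact_bd :
    (ShortComplex.mk (kernel.ι (K.homologyπ i)) (K.homologyπ i) (kernel.condition _)).ShortExact :=
  ShortComplex.ShortExact.mk' (ShortComplex.exact_of_f_is_kernel _ (kernelIsKernel _))
    inferInstance inferInstance

/-- Cycles and boundaries of a complex of orthogonal objects. -/
theorem perpLE_cycles (hK : ∀ i, Perp.{w} M (K.X i)) :
    ∀ k, (∀ i, ∀ j < k, PerpLE.{w} M j (K.homology i)) →
      ∀ i, PerpLE.{w} M k (K.cycles i) ∧ PerpLE.{w} M k (bd K i) := by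
  intro k
  induction k with
  | zero =>
    intro _ i
    refine ⟨perpLE_zero fun f => ?_, perpLE_zero fun f => ?_⟩
    · rw [← cancel_mono (K.iCycles i), zero_comp]
      exact hom_eq_zero (hK i 0) _
    · rw [← cancel_mono (kernel.ι (K.homologyπ i) ≫ K.iCycles i), zero_comp]
      exact hom_eq_zero (hK i 0) _
  | succ k ih =>
    intro hH i
    have ih' := ih fun i j hj => hH i j (by omega)
    have hz : ∀ i, PerpLE.{w} M (k + 1) (K.cycles i) := fun i =>
      perpLE₁ (shortExact_cycles K i) (hK i (k + 1)) (ih' (i + 1)).2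
    exact ⟨hz i, perpLE₁ (shortExact_bd K i) (hz i) (hH i k (by omega))⟩

end Cycles

section Adjunction

variable {D : Type u'} [Category.{v'} D] [Abelian D] [HasInjectiveResolutions D]
  {ρ : C ⥤ D} {Φ : D ⥤ C} (adj : ρ ⊣ Φ) [ρ.Additive] [Φ.Additive] [ρ.PreservesMonomorphisms]
  [PreservesFiniteLimits Φ]
  (A : ObjectProperty C) [WSerre.IsWeakSerre A]
  (hsep : ∀ G, A G → Mono (adj.unit.app G))
  (hA : ∀ G, A G → ∀ i : ℕ, A ((Φ.rightDerived i).obj (ρ.obj G)))
  (hM : IsZero (ρ.obj M))

include adj hM in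
lemma hom_eq_zero_of_mono_unit {G : C} [Mono (adj.unit.app G)] (f : M ⟶ G) : f = 0 := by
  rw [← cancel_mono (adj.unit.app G), zero_comp]
  exact (adj.unit.naturality f).trans ((congrArg (adj.unit.app M ≫ ·)
    ((congrArg Φ.map (hM.eq_of_src (ρ.map f) 0)).trans (Functor.map_zero _ _ _))).trans comp_zero)

include adj hM in
lemma perp_obj (I : D) [Injective I] : Perp.{w} M (Φ.obj I) := by
  haveI : Injective (Φ.obj I) := Injective.injective_of_adjoint adj I
  exact perp_of_injective fun f =>
    (adj.homEquiv M I).symm.injective (hM.eq_of_src _ _)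

include adj hsep hA hM in
/-- No maps and no extensions from an object killed by `ρ` into a member. -/
theorem perp_of_mem {G : C} (hG : A G) : Perp.{w} M G := by
  suffices ∀ k G, A G → PerpLE.{w} M k G from fun k => this k G hG
  intro k
  induction k with
  | zero =>
    intro G hG
    haveI := hsep G hG
    exact perpLE_zero fun f => hom_eq_zero_of_mono_unit adj hM f
  | succ k ih =>
    intro G hG
    haveI := hsep G hG
    haveI : Φ.IsRightAdjoint := adj.isRightAdjoint
    let R := injectiveResolution (ρ.obj G)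
    let K := (Φ.mapHomologicalComplex (ComplexShape.up ℕ)).obj R.cocomplex
    have hH : ∀ i, A (K.homology i) := fun i =>
      A.prop_of_iso (R.isoRightDerivedObj Φ i) (hA G hG i)
    have hZ := (perpLE_cycles K (fun i => perp_obj adj hM (R.cocomplex.X i)) (k + 1)
      (fun i j hj => (ih _ (hH i)).mono (by omega)) 0).1
    haveI hι : Mono (R.ι.f 0) := inferInstance
    let ι₀ : G ⟶ K.cycles 0 := adj.unit.app G ≫ R.toRightDerivedZero' Φ
    haveI : Mono ι₀ := by
      haveI hm : Mono (Φ.map (R.ι.f 0)) := by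
        haveI : Φ.PreservesMonomorphisms := Functor.preservesMonomorphisms_of_isRightAdjoint _
        exact @Functor.map_mono _ _ _ _ Φ _ _ _ (R.ι.f 0) hι
      haveI : Mono (R.toRightDerivedZero' Φ) := 
        @mono_of_mono_fac _ _ _ _ _ _ _ _ hm (R.toRightDerivedZero'_comp_iCycles Φ)
      infer_instance
    have hZA : A (K.cycles 0) := by
      haveI : IsIso (K.homologyπ 0) := K.isIso_homologyπ _ 0 rfl (K.shape _ _ (by simp))
      exact A.prop_of_iso (asIso (K.homologyπ 0)).symm (hH 0)
    exact perpLE₁ (S := ShortComplex.mk ι₀ (cokernel.π ι₀) (cokernel.condition _))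
      (ShortComplex.ShortExact.mk' (ShortComplex.exact_of_g_is_cokernel _ (cokernelIsCokernel _))
        inferInstance inferInstance) hZ
      (ih _ (A.prop_of_isColimit_cokernelCofork (colimit.isColimit (parallelPair ι₀ 0)) hG hZA))

end Adjunction

section Vanishing

variable (K : CochainComplex C ℕ) (n : ℕ)

/-- A map into the first possibly nonzero cohomology vanishes. -/
theorem hom_homology_eq_zero (hK : ∀ i, Perp.{w} M (K.X i)) (h0 : Perp.{w} M (K.homology 0))
    (hn : ∀ i, 1 ≤ i → i ≤ n → IsZero (K.homology i)) (r : M ⟶ K.homology (n + 1)) : r = 0 := by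
  have hz : ∀ i ≤ n, Perp.{w} M (bd K (i + 1)) := by
    intro i
    induction i with
    | zero =>
      intro _ k
      haveI : IsIso (K.homologyπ 0) := K.isIso_homologyπ _ 0 rfl (K.shape _ _ (by simp))
      have hZ : Perp.{w} M (K.cycles 0) := fun k j hj e => by
        have := h0 k j hj (e.comp (Ext.mk₀ (K.homologyπ 0)) (add_zero j))
        have h2 := congrArg (fun x : Ext.{w} M (K.homology 0) j =>
          x.comp (Ext.mk₀ (inv (K.homologyπ 0))) (add_zero j)) this
        simpa using h2
      exact perpLE₃ (shortExact_cycles K 0) (hZ (k + 1)) (hK 0 k)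
    | succ i ih =>
      intro hi k
      haveI : IsIso (kernel.ι (K.homologyπ (i + 1))) :=
        kernel.ι_of_zero ((hn (i + 1) (by omega) hi).eq_of_tgt (K.homologyπ (i + 1)) 0)
      have hZ : PerpLE.{w} M (k + 1) (K.cycles (i + 1)) := fun j hj e => by
        have := ih (by omega) j j le_rfl
          (e.comp (Ext.mk₀ (inv (kernel.ι (K.homologyπ (i + 1))))) (add_zero j))
        have h2 := congrArg (fun x : Ext.{w} M (bd K (i + 1)) j =>
          x.comp (Ext.mk₀ (kernel.ι (K.homologyπ (i + 1)))) (add_zero j)) this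
        simpa using h2
      exact perpLE₃ (shortExact_cycles K (i + 1)) hZ (hK (i + 1) k)
  have hZ0 : PerpLE.{w} M 0 (K.cycles (n + 1)) := perpLE_zero fun f => by
    rw [← cancel_mono (K.iCycles (n + 1)), zero_comp]
    exact hom_eq_zero (hK (n + 1) 0) _
  exact hom_eq_zero (perpLE₃ (shortExact_bd K (n + 1)) (hz n le_rfl 1) hZ0) r

end Vanishing

end Groth.Agent.CompareLib
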